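import Groth.Agent.DegMono.Basic
import Groth.Agent.KTheory.LocFree
import Groth.Agent.LocFree.Rank
import Mathlib.AlgebraicGeometry.FunctionField

/-!
# Monomorphisms of locally free modules of equal rank on curves
-/

universe u

open CategoryTheory CategoryTheory.Limits AlgebraicGeometry

namespace Groth.DegMono

variable {X : Scheme.{u}} [IsIntegral X]

theorem subsingleton_stalk_cokernel {E F : X.Modules} {n : ℕ} (hE : FlatMod.IsFinLocFreeOfRank n E)
    (hF : FlatMod.IsFinLocFreeOfRank n F) (f : E ⟶ F) [Mono f] :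
    Subsingleton ((cokernel f).presheaf.stalk (genericPoint X)) := by
  have hS : (ShortComplex.mk f (cokernel.π f) (cokernel.condition f)).ShortExact :=
    { exact := ShortComplex.exact_cokernel f }
  obtain ⟨hinj, hex, hsurj⟩ := Groth.KTheory.LocFree.stalk_exact hS (genericPoint X)
  let K := X.presheaf.stalk (genericPoint X)
  let : Field K := inferInstanceAs (Field X.functionField)
  have := Groth.LocFree.finite_stalk (Groth.LocFree.isFinLocFree_of_rank hE) (genericPoint X)
  have := Groth.LocFree.finite_stalk (Groth.LocFree.isFinLocFree_of_rank hF) (genericPoint X)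
  have hf : Function.Surjective (Groth.KTheory.LocFree.stalkₗ f (genericPoint X)) :=
    (LinearMap.injective_iff_surjective_of_finrank_eq_finrank
      ((Groth.LocFree.finrank_stalk hE _).trans (Groth.LocFree.finrank_stalk hF _).symm)).1 hinj
  refine subsingleton_of_forall_eq 0 fun q => ?_
  obtain ⟨t, rfl⟩ := hsurj q
  obtain ⟨s, hs⟩ := hf t
  exact (hex t).2 ⟨s, hs⟩

variable (k : Type u) [Field k] [X.Over (Spec (CommRingCat.of k))] [IsProper (X ↘ Spec (CommRingCat.of k))]

theorem deg_le_of_locFree (hdim : topologicalKrullDim X ≤ 1) {E F : X.Modules} {n : ℕ}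
    (hE : FlatMod.IsFinLocFreeOfRank n E) (hF : FlatMod.IsFinLocFreeOfRank n F) (f : E ⟶ F) [Mono f] :
    Curv2.deg k X E n ≤ Curv2.deg k X F n ∧
      (Curv2.deg k X E n = Curv2.deg k X F n ↔ IsIso f) :=
  deg_le_and_eq_iff k hdim (Groth.KTheory.LocFree.isCoh (Groth.LocFree.isFinLocFree_of_rank hE))
    (Groth.KTheory.LocFree.isCoh (Groth.LocFree.isFinLocFree_of_rank hF)) n f
    (subsingleton_stalk_cokernel hE hF f)

end Groth.DegMono
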