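import Groth.Agent.DegMono.Torsion
import Groth.Agent.DegMono.LocFree
import Groth.Agent.QCohMod.Coherent

/-!
# Global sections of modules with finite support as products of stalks
-/

universe u

open CategoryTheory CategoryTheory.Limits AlgebraicGeometry TopologicalSpace Opposite

namespace Groth.DegMono

open Groth.QCohMod (germ)

variable {X : Scheme.{u}}

theorem subsingleton_stalk_quotMod (I : X.IdealSheafData) {x : X} (hx : x ∉ I.support) :
    Subsingleton ((ClSub.quotMod I).presheaf.stalk x) := by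
  refine subsingleton_of_forall_eq 0 fun t => ?_
  obtain ⟨V, hV, s, rfl⟩ := Groth.QCohMod.exists_germ (ClSub.quotMod I) x t
  let W : X.Opens := V ⊓ ⟨(I.support : Set X)ᶜ, I.support.isClosed.isOpen_compl⟩
  have hW : I.subschemeι ⁻¹ᵁ W = ⊥ := by
    refine eq_bot_iff.2 fun z hz => ?_
    have hz' : I.subschemeι z ∈ Set.range I.subschemeι := ⟨z, rfl⟩
    rw [Scheme.IdealSheafData.range_subschemeι] at hz'
    exact absurd hz' hz.2
  have h0 : Subsingleton Γ(Coh.structureModule I.subscheme, I.subschemeι ⁻¹ᵁ W) := by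
    rw [hW]
    exact inferInstanceAs (Subsingleton Γ(I.subscheme, ⊥))
  rw [← Groth.QCohMod.germ_res (ClSub.quotMod I) (inf_le_left : W ≤ V) x ⟨hV, hx⟩ s,
    show Groth.QCohMod.res (ClSub.quotMod I) (inf_le_left : W ≤ V) s = 0 from @Subsingleton.elim _ h0 _ _,
    map_zero]

theorem isCoh_quotMod [IsLocallyNoetherian X] (I : X.IdealSheafData) : Coh.IsCoh (ClSub.quotMod I) :=
  haveI := epi_toSubscheme I
  ⟨inferInstance, Groth.QCohMod.isFT_of_epi (ClSub.toSubscheme I) Groth.QCohMod.isCoh_unit.2⟩

theorem finite_support_quotMod [IsIntegral X] (k : Type u) [Field k]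
    [X.Over (Spec (CommRingCat.of k))] [IsProper (X ↘ Spec (CommRingCat.of k))]
    (hdim : topologicalKrullDim X ≤ 1) (I : X.IdealSheafData) (hI : FGA.IsEffCartier I) :
    (I.support : Set X).Finite := by
  have ns : NoetherianSpace X.toTopCat := noetherianSpace k (X := X)
  have : QuasiSober X.toTopCat := inferInstanceAs (QuasiSober X)
  have hη : genericPoint X ∉ I.support := by
    obtain ⟨U, hxU, a, ha, hIU⟩ := hI (genericPoint X)
    rw [Scheme.IdealSheafData.mem_support_iff_of_mem hxU, hIU]
    simp only [Scheme.zeroLocus_span, Scheme.mem_zeroLocus_iff, Set.mem_singleton_iff, forall_eq,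
      not_not]
    rw [Scheme.mem_basicOpen X a _ hxU]
    have : Nonempty U.1 := ⟨⟨_, hxU⟩⟩
    refine IsUnit.mk0 (G₀ := X.functionField) _ fun h => nonZeroDivisors.ne_zero ha ?_
    exact (map_eq_zero_iff _ (AlgebraicGeometry.germ_injective_of_isIntegral X (genericPoint X) hxU)).1 h
  refine (Groth.EulerDeg.finite_and_isClosed_of_closed_points (X := X.toTopCat) (U := Set.univ)
    isOpen_univ (Set.subset_univ _) (fun x hx => ?_) fun z hz => ?_).1
  · exact I.support.isClosed.closure_eq ▸ hx.1
  · by_contra h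
    obtain rfl := Groth.Curves1.CurveMor.eq_genericPoint_of_not_isClosed
      (X ↘ Spec (CommRingCat.of k)) hdim h
    exact hη hz

variable (k : Type u) [Field k] [X.Over (Spec (CommRingCat.of k))]

/-- The base field mapping to a local ring. -/
noncomputable def kres (x : X) : k →+* X.presheaf.stalk x :=
  (X.presheaf.germ ⊤ x trivial).hom.comp (Coh.toGlobal (X ↘ Spec (CommRingCat.of k)))

noncomputable abbrev stalkModule (M : X.Modules) (x : X) : Module k (M.presheaf.stalk x) :=
  Module.compHom _ (kres k x)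

/-- Degree zero cohomology as global sections. -/
noncomputable def secEquiv (M : X.Modules) : Coh.HH X M 0 ≃+ Γ(M, ⊤) :=
  AddEquiv.trans CategoryTheory.Abelian.Ext.addEquiv₀ (Groth.CohBase.homConstZ (Coh.toAb M))

theorem secEquiv_smul (M : X.Modules) (a : k) (t : Coh.HH X M 0) :
    secEquiv M (a • t) =
      (Coh.smulAb M (Coh.toGlobal (X ↘ Spec (CommRingCat.of k)) a)).hom.app (op ⊤) (secEquiv M t) := by
  obtain ⟨g, rfl⟩ := (CategoryTheory.Abelian.Ext.addEquiv₀).symm.surjective t
  rw [Groth.EulerDeg.smul_def]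
  simp only [secEquiv, AddEquiv.trans_apply, AddEquiv.apply_symm_apply]
  refine Eq.trans (congrArg (Groth.CohBase.homConstZ (Coh.toAb M)) ?_)
    (Groth.CohBase.homConstZ_comp _ g)
  refine (CategoryTheory.Abelian.Ext.addEquiv₀).symm.injective ?_
  rw [AddEquiv.symm_apply_apply]
  exact CategoryTheory.Abelian.Ext.mk₀_comp_mk₀ g _

theorem germ_secEquiv_smul (M : X.Modules) (x : X) (a : k) (t : Coh.HH X M 0) :
    germ M x (U := ⊤) trivial (secEquiv M (a • t)) =
      kres k x a • germ M x (U := ⊤) trivial (secEquiv M t) := by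
  rw [secEquiv_smul, Coh.smulAb_app]
  refine Eq.trans ?_ (Groth.QCohMod.germ_smul M x (U := ⊤) trivial
    (Coh.toGlobal (X ↘ Spec (CommRingCat.of k)) a) (secEquiv M t))
  congr 2
  show (X.ringCatSheaf.obj.map (𝟙 _)).hom _ = _
  rw [CategoryTheory.Functor.map_id]
  rfl

/-- Extension by zero at a finite set of closed points. -/
theorem exists_sec_germ (M : X.Modules) {S : Set X} (hS : S.Finite)
    (hpts : ∀ x ∈ S, IsClosed ({x} : Set X)) (hsupp : ∀ x ∉ S, Subsingleton (M.presheaf.stalk x))
    (x : X) (hx : x ∈ S) (v : M.presheaf.stalk x) :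
    ∃ t : Γ(M, ⊤), germ M x (U := ⊤) trivial t = v ∧
      ∀ y ≠ x, germ M y (U := ⊤) trivial t = 0 := by
  obtain ⟨V, hV, s, rfl⟩ := Groth.QCohMod.exists_germ M x v
  have hc : IsClosed (S \ {x}) := by
    rw [← Set.biUnion_of_singleton (S \ {x})]
    exact (hS.sdiff).isClosed_biUnion fun y hy => hpts y hy.1
  let U : X.Opens := V ⊓ ⟨(S \ {x})ᶜ, hc.isOpen_compl⟩
  let W : X.Opens := ⟨{x}ᶜ, (hpts x hx).isOpen_compl⟩
  have hxU : x ∈ U := ⟨hV, fun h => h.2 rfl⟩
  let s' : Γ(M, U) := Groth.QCohMod.res M inf_le_left s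
  let O : Bool → X.Opens := fun b => if b then U else W
  let sf : ∀ b, ToType (M.presheaf.obj (op (O b))) := fun b => match b with
    | true => s'
    | false => 0
  have hzero : ∀ y ∈ U, y ≠ x → Subsingleton (M.presheaf.stalk y) := fun y hy hne =>
    hsupp y fun hyS => hy.2 ⟨hyS, hne⟩
  have hcomp : TopCat.Presheaf.IsCompatible M.presheaf O sf := by
    intro a b
    refine TopCat.Presheaf.section_ext (X := X.toTopCat) (Coh.toAb M) _ _ _ fun y hy => ?_
    cases a <;> cases b
    · rfl
    · exact @Subsingleton.elim _ (hzero y hy.2 hy.1) _ _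
    · exact @Subsingleton.elim _ (hzero y hy.1 hy.2) _ _
    · rfl
  have hcov : (⊤ : X.Opens) ≤ iSup O := fun y _ => by
    by_cases h : y = x
    · exact Opens.mem_iSup.2 ⟨true, h ▸ hxU⟩
    · exact Opens.mem_iSup.2 ⟨false, h⟩
  obtain ⟨t, ht, -⟩ := TopCat.Sheaf.existsUnique_gluing' (X := X.toTopCat) (Coh.toAb M) O ⊤
    (fun b => homOfLE le_top) hcov sf hcomp
  refine ⟨t, ?_, fun y hy => ?_⟩
  · refine ((Groth.QCohMod.germ_res M (le_top : U ≤ ⊤) x hxU t).symm.trans
      (congrArg _ (ht true))).trans ?_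
    exact Groth.QCohMod.germ_res M inf_le_left x hxU s
  · refine ((Groth.QCohMod.germ_res M (le_top : W ≤ ⊤) y hy t).symm.trans
      (congrArg _ (ht false))).trans ?_
    exact map_zero _

theorem germs_bijective (M : X.Modules) (S : Finset X)
    (hpts : ∀ x ∈ S, IsClosed ({x} : Set X)) (hsupp : ∀ x ∉ S, Subsingleton (M.presheaf.stalk x)) :
    Function.Bijective fun (t : Γ(M, ⊤)) (x : S) => germ M (x : X) (U := ⊤) trivial t := by
  refine ⟨fun t t' h => TopCat.Presheaf.section_ext (X := X.toTopCat) (Coh.toAb M) _ _ _ fun y hy => ?_,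
    fun v => ?_⟩
  · by_cases hyS : y ∈ S
    · exact congrFun h ⟨y, hyS⟩
    · exact @Subsingleton.elim _ (hsupp y hyS) _ _
  · choose t ht ht0 using fun x : S =>
      exists_sec_germ M S.finite_toSet hpts hsupp (x : X) x.2 (v x)
    refine ⟨∑ x : S, t x, funext fun y => ?_⟩
    show germ M (y : X) (U := ⊤) trivial (∑ x : S, t x) = v y
    rw [map_sum, Finset.sum_eq_single y (fun x _ hxy => ht0 x y fun h => hxy (Subtype.ext h.symm))
      fun h => absurd (Finset.mem_univ y) h]
    exact ht y

/-- Global sections of a module supported on a finite set of closed points. -/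
noncomputable def hhEquivPi (M : X.Modules) (S : Finset X)
    (hpts : ∀ x ∈ S, IsClosed ({x} : Set X)) (hsupp : ∀ x ∉ S, Subsingleton (M.presheaf.stalk x)) :
    letI := fun x : S => stalkModule k M (x : X)
    Coh.HH X M 0 ≃ₗ[k] ∀ x : S, M.presheaf.stalk (x : X) :=
  letI := fun x : S => stalkModule k M (x : X)
  let φ : Coh.HH X M 0 →ₗ[k] ∀ x : S, M.presheaf.stalk (x : X) :=
    { toFun := fun t x => germ M (x : X) (U := ⊤) trivial (secEquiv M t)
      map_add' := fun a b => funext fun x => by
        show germ M (x : X) (U := ⊤) trivial (secEquiv M (a + b)) = _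
        rw [map_add, map_add]
        rfl
      map_smul' := fun a t => funext fun x => germ_secEquiv_smul k M (x : X) a t }
  LinearEquiv.ofBijective φ
    (by exact (germs_bijective M S hpts hsupp).comp (secEquiv M).bijective)

/-- `h⁰(E ⊗ T) = n · h⁰(T)` for `T` supported on finitely many closed points. -/
theorem finrank_tensor_finite_support {E : X.Modules} {n : ℕ}
    (hE : FlatMod.IsFinLocFreeOfRank n E) (T : X.Modules) (S : Finset X)
    (hpts : ∀ x ∈ S, IsClosed ({x} : Set X)) (hsupp : ∀ x ∉ S, Subsingleton (T.presheaf.stalk x))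
    [Module.Finite k (Coh.HH X T 0)] :
    Module.Finite k (Coh.HH X (CohB1.tensorMod E T) 0) ∧
      Module.finrank k (Coh.HH X (CohB1.tensorMod E T) 0) = n * Module.finrank k (Coh.HH X T 0) := by
  let _ := fun x : X => stalkModule k T x
  let _ := fun x : X => stalkModule k (CohB1.tensorMod E T) x
  have hsupp' : ∀ x ∉ S, Subsingleton ((CohB1.tensorMod E T).presheaf.stalk x) := fun x hx =>
    haveI := hsupp x hx
    (Groth.QCohMod.stalkTensorEquiv E T x).symm.toEquiv.subsingleton
  have eT := hhEquivPi k T S hpts hsupp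
  have eM := hhEquivPi k (CohB1.tensorMod E T) S hpts hsupp'
  have hfree := Groth.LocFree.isFinLocFree_of_rank hE
  have b : ∀ x : X, Module.Basis (Fin n) (X.presheaf.stalk x) (E.presheaf.stalk x) := fun x =>
    haveI := Groth.LocFree.finite_stalk hfree x
    haveI := Groth.KTheory.LocFree.free_stalk hfree x
    Module.finBasisOfFinrankEq _ _ (Groth.LocFree.finrank_stalk hE x)
  let a : ∀ x : X, (CohB1.tensorMod E T).presheaf.stalk x ≃ₗ[k] (Fin n → T.presheaf.stalk x) :=
    fun x =>
      let e : (CohB1.tensorMod E T).presheaf.stalk x ≃ₗ[X.presheaf.stalk x]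
          (Fin n → T.presheaf.stalk x) :=
        (Groth.QCohMod.stalkTensorEquiv E T x).symm ≪≫ₗ
          LinearEquiv.rTensor _ (b x).equivFun ≪≫ₗ TensorProduct.comm _ _ _ ≪≫ₗ
            TensorProduct.piScalarRight _ _ _ _
      { e.toAddEquiv with map_smul' := fun c v => e.map_smul (kres k x c) v }
  have : Module.Finite k (∀ x : S, T.presheaf.stalk (x : X)) := Module.Finite.equiv eT
  let e := eM ≪≫ₗ LinearEquiv.piCongrRight (fun x : S => a (x : X))
  let sw : (∀ x : S, Fin n → T.presheaf.stalk (x : X)) ≃ₗ[k]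
      (Fin n → ∀ x : S, T.presheaf.stalk (x : X)) :=
    { toFun := fun f i x => f x i
      invFun := fun f x i => f i x
      map_add' := fun _ _ => rfl
      map_smul' := fun _ _ => rfl }
  have e' := e ≪≫ₗ sw
  refine ⟨Module.Finite.equiv e'.symm, ?_⟩
  rw [e'.finrank_eq, Module.finrank_pi_fintype, Finset.sum_const, Finset.card_univ, Fintype.card_fin,
    smul_eq_mul, eT.finrank_eq]

theorem finrank_fibD [IsIntegral X] [IsProper (X ↘ Spec (CommRingCat.of k))]
    (hdim : topologicalKrullDim X ≤ 1) (I : X.IdealSheafData) (hI : FGA.IsEffCartier I)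
    {E : X.Modules} {n : ℕ} (hE : FlatMod.IsFinLocFreeOfRank n E) :
    Module.Finite k (Coh.HH X (CohB1.tensorMod E (ClSub.quotMod I)) 0) ∧
      Module.finrank k (Coh.HH X (CohB1.tensorMod E (ClSub.quotMod I)) 0) =
        n * Module.finrank k (Coh.HH X (ClSub.quotMod I) 0) := by
  have := isLocallyNoetherian k (X := X)
  have := (finCoh k (isCoh_quotMod I)).finite 0
  have hfin := finite_support_quotMod k hdim I hI
  have hη : genericPoint X ∉ (I.support : Set X) := by
    obtain ⟨U, hxU, a, ha, hIU⟩ := hI (genericPoint X)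
    intro hmem
    rw [SetLike.mem_coe, Scheme.IdealSheafData.mem_support_iff_of_mem hxU, hIU] at hmem
    simp only [Scheme.zeroLocus_span, Scheme.mem_zeroLocus_iff, Set.mem_singleton_iff, forall_eq] at hmem
    apply hmem
    rw [Scheme.mem_basicOpen X a _ hxU]
    have : Nonempty U.1 := ⟨⟨_, hxU⟩⟩
    refine IsUnit.mk0 (G₀ := X.functionField) _ fun h => nonZeroDivisors.ne_zero ha ?_
    exact (map_eq_zero_iff _ (AlgebraicGeometry.germ_injective_of_isIntegral X (genericPoint X) hxU)).1 h
  refine finrank_tensor_finite_support k hE _ hfin.toFinset (fun x hx => ?_) fun x hx =>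
    subsingleton_stalk_quotMod I (fun h => hx (hfin.mem_toFinset.2 h))
  by_contra h
  obtain rfl := Groth.Curves1.CurveMor.eq_genericPoint_of_not_isClosed
    (X ↘ Spec (CommRingCat.of k)) hdim h
  exact hη (hfin.mem_toFinset.1 hx)

end Groth.DegMono
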