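import Groth.Agent.DegMono.Basic
import Groth.Agent.QCohMod.TensorStalk
import Groth.Agent.PicAux.TensorLift
import Groth.Agent.PicAux.EffCartierLine
import Groth.Prelude.Def_SecTwist
import Groth.Prelude.Def_ClSub2
import Groth.Prelude.Def_FGA
import Mathlib.AlgebraicGeometry.FunctionField

/-!
# Torsion modules on curves: global sections and restriction to a divisor
-/

universe u

open CategoryTheory CategoryTheory.Limits AlgebraicGeometry TopologicalSpace Opposite

namespace Groth.DegMono

variable {X : Scheme.{u}}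

/-- The stalk at the generic point vanishes. -/
abbrev IsTors [IrreducibleSpace X] (M : X.Modules) : Prop :=
  Subsingleton (M.presheaf.stalk (genericPoint X))

section general

variable [IrreducibleSpace X]

theorem IsTors.of_mono {M N : X.Modules} (hN : IsTors N) (φ : M ⟶ N) [Mono φ] : IsTors M :=
  ⟨fun _ _ => (Groth.QCohMod.mono_iff_stalk φ).mp ‹_› (genericPoint X) (@Subsingleton.elim _ hN _ _)⟩

theorem IsTors.of_epi {M N : X.Modules} (hM : IsTors M) (φ : M ⟶ N) [Epi φ] : IsTors N :=
  have hs := (Groth.QCohMod.epi_iff_stalk φ).mp ‹_› (genericPoint X)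
  haveI : Subsingleton ((Groth.QCohMod.stalk (genericPoint X)).obj M) := hM
  hs.subsingleton

theorem IsTors.tensorMod (M : X.Modules) {N : X.Modules} (hN : IsTors N) :
    IsTors (CohB1.tensorMod M N) :=
  (Groth.QCohMod.stalkTensorEquiv M N (genericPoint X)).symm.toEquiv.subsingleton

end general

theorem isTors_quotMod [IsIntegral X] (I : X.IdealSheafData) (hI : FGA.IsEffCartier I) :
    IsTors (ClSub.quotMod I) := by
  have hη : genericPoint X ∉ I.support := by
    obtain ⟨U, hxU, a, ha, hIU⟩ := hI (genericPoint X)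
    rw [Scheme.IdealSheafData.mem_support_iff_of_mem hxU, hIU]
    simp only [Scheme.zeroLocus_span, Scheme.mem_zeroLocus_iff, Set.mem_singleton_iff, forall_eq,
      not_not]
    rw [Scheme.mem_basicOpen X a _ hxU]
    have hne : X.presheaf.germ U.1 (genericPoint X) hxU a ≠ 0 := by
      have : Nonempty U.1 := ⟨⟨_, hxU⟩⟩
      intro h
      have : a = 0 := (map_eq_zero_iff _ (AlgebraicGeometry.germ_injective_of_isIntegral X (genericPoint X) hxU)).1 h
      exact nonZeroDivisors.ne_zero ha this
    exact IsUnit.mk0 (G₀ := X.functionField) _ hne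
  refine subsingleton_of_forall_eq 0 fun t => ?_
  obtain ⟨V, hV, s, rfl⟩ := Groth.QCohMod.exists_germ (ClSub.quotMod I) (genericPoint X) t
  let W : X.Opens := V ⊓ ⟨(I.support : Set X)ᶜ, I.support.isClosed.isOpen_compl⟩
  have hW : I.subschemeι ⁻¹ᵁ W = ⊥ := by
    refine eq_bot_iff.2 fun z hz => ?_
    have hz' : I.subschemeι z ∈ Set.range I.subschemeι := ⟨z, rfl⟩
    rw [Scheme.IdealSheafData.range_subschemeι] at hz'
    exact absurd hz' hz.2
  have h0 : Subsingleton Γ(Coh.structureModule I.subscheme, I.subschemeι ⁻¹ᵁ W) := by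
    rw [hW]
    exact inferInstanceAs (Subsingleton Γ(I.subscheme, ⊥))
  rw [← Groth.QCohMod.germ_res (ClSub.quotMod I) (inf_le_left : W ≤ V) (genericPoint X) ⟨hV, hη⟩ s,
    show Groth.QCohMod.res (ClSub.quotMod I) (inf_le_left : W ≤ V) s = 0 from @Subsingleton.elim _ h0 _ _,
    map_zero]

theorem epi_toSubscheme (I : X.IdealSheafData) : Epi (ClSub.toSubscheme I) :=
  (Groth.PicAux.shortExact_idealMod I).epi_g

theorem epi_tensorMap (M : X.Modules) {N N' : X.Modules} (s : N ⟶ N') [Epi s] :
    Epi (KoszTw.tensorMap (𝟙 M) s) := by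
  refine (Groth.QCohMod.epi_iff_stalk _).mpr fun x t => ?_
  obtain ⟨w, rfl⟩ := (Groth.QCohMod.stalkTensorEquiv M N' x).surjective t
  induction w using TensorProduct.induction_on with
  | zero => exact ⟨0, (map_zero _).trans (map_zero _).symm⟩
  | add a b ha hb =>
    obtain ⟨p, hp⟩ := ha
    obtain ⟨q, hq⟩ := hb
    exact ⟨p + q, (map_add _ _ _).trans ((congrArg₂ (· + ·) hp hq).trans (map_add _ _ _).symm)⟩
  | tmul a b =>
    obtain ⟨c, rfl⟩ := (Groth.QCohMod.epi_iff_stalk s).mp inferInstance x b
    obtain ⟨W, hW, a, c, rfl, rfl⟩ := Groth.QCohMod.exists_common_germ x a c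
    refine ⟨Groth.QCohMod.germ (CohB1.tensorMod M N) x hW (Groth.PicAux.tmulSec a c), ?_⟩
    rw [Groth.QCohMod.stalk_map_germ s x hW c, Groth.QCohMod.stalk_map_germ _ x hW,
      Groth.QCohMod.stalkTensorEquiv_tmul]
    exact congrArg _ (KoszTw.tensorMap_tmul (𝟙 M) s W a c)

theorem unitorR_natural {M M' : X.Modules} (f : M ⟶ M') :
    KoszTw.tensorMap f (𝟙 (Coh.structureModule X)) ≫ (SecTwist.unitorR M').hom =
      (SecTwist.unitorR M).hom ≫ f := by
  refine Groth.PicAux.tensor_hom_ext fun W a b => ?_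
  show (SecTwist.unitorR M').hom.app W
      ((KoszTw.tensorMap f (𝟙 (Coh.structureModule X))).app W (Groth.PicAux.tmulSec a b)) =
    f.app W ((SecTwist.unitorR M).hom.app W (Groth.PicAux.tmulSec a b))
  have h1 : (KoszTw.tensorMap f (𝟙 (Coh.structureModule X))).app W (Groth.PicAux.tmulSec a b) =
      Groth.PicAux.tmulSec (f.app W a) b := KoszTw.tensorMap_tmul f (𝟙 _) W a b
  rw [h1]
  refine (SecTwist.unitorR_tmul M' W (f.app W a) b).trans ?_
  refine Eq.trans ?_ (congrArg (f.app W) (SecTwist.unitorR_tmul M W a b).symm)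
  exact (Scheme.Modules.Hom.app_smul f b a).symm

/-- `m ↦ m ⊗ 1`. -/
noncomputable def toRestrict (I : X.IdealSheafData) (M : X.Modules) :
    M ⟶ CohB1.tensorMod M (ClSub.quotMod I) :=
  (SecTwist.unitorR M).inv ≫ KoszTw.tensorMap (𝟙 M) (ClSub.toSubscheme I)

instance epi_toRestrict (I : X.IdealSheafData) (M : X.Modules) : Epi (toRestrict I M) := by
  have := epi_toSubscheme I
  have := epi_tensorMap M (ClSub.toSubscheme I)
  exact epi_comp _ _

theorem toRestrict_natural (I : X.IdealSheafData) {M M' : X.Modules} (f : M ⟶ M') :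
    f ≫ toRestrict I M' = toRestrict I M ≫ KoszTw.tensorMap f (𝟙 (ClSub.quotMod I)) := by
  rw [toRestrict, toRestrict, Category.assoc, ← KoszTw.tensorMap_comp, Category.id_comp, Category.comp_id,
    ← Iso.cancel_iso_hom_left (SecTwist.unitorR M), ← Category.assoc, ← unitorR_natural, Category.assoc,
    Iso.hom_inv_id_assoc, Iso.hom_inv_id_assoc, ← KoszTw.tensorMap_comp, Category.id_comp, Category.comp_id]

variable (k : Type u) [Field k] [X.Over (Spec (CommRingCat.of k))]
variable [IsIntegral X] [IsProper (X ↘ Spec (CommRingCat.of k))]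

theorem hMap_surjective (hdim : topologicalKrullDim X ≤ 1) {M N : X.Modules} (hM : IsTors M)
    (φ : M ⟶ N) [Epi φ] : Function.Surjective (Groth.EulerDeg.hMap k φ 0) := by
  have hS : (ShortComplex.mk (kernel.ι φ) φ (kernel.condition φ)).ShortExact :=
    { exact := ShortComplex.exact_kernel φ }
  have := subsingleton_HH_succ k hdim (hM.of_mono (kernel.ι φ)) 0
  exact fun y => (Groth.EulerDeg.exact_right k hS 0 y).1 (@Subsingleton.elim _ this _ _)

/-- For a map of torsion modules with `h⁰` equal, the kernel on sections is bounded by `h⁰` of any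
module surjecting onto the cokernel. -/
theorem finrank_ker_hMap_le (hdim : topologicalKrullDim X ≤ 1) {A B Q : X.Modules} (φ : A ⟶ B)
    (hA : IsTors A) (hB : IsTors B) (hQ : IsTors Q)
    [Module.Finite k (Coh.HH X A 0)] [Module.Finite k (Coh.HH X B 0)] [Module.Finite k (Coh.HH X Q 0)]
    (heq : Module.finrank k (Coh.HH X A 0) = Module.finrank k (Coh.HH X B 0))
    (q : Q ⟶ cokernel φ) [Epi q] :
    Module.finrank k (LinearMap.ker (Groth.EulerDeg.hMap k φ 0)) ≤
      Module.finrank k (Coh.HH X Q 0) := by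
  have s2 : (ShortComplex.mk (Abelian.image.ι φ) (cokernel.π φ) (kernel.condition _)).ShortExact :=
    { exact := ShortComplex.exact_kernel _ }
  have hsπ := hMap_surjective k hdim hB (cokernel.π φ)
  have hsp := hMap_surjective k hdim hA (Abelian.factorThruImage φ)
  have hsq := hMap_surjective k hdim hQ q
  have hker : LinearMap.ker (Groth.EulerDeg.hMap k (cokernel.π φ) 0) =
      LinearMap.range (Groth.EulerDeg.hMap k φ 0) := by
    rw [LinearMap.exact_iff.1 (Groth.EulerDeg.exact_mid k s2 0)]
    have h := congrArg LinearMap.range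
      (Groth.EulerDeg.hMap_comp k (Abelian.factorThruImage φ) (Abelian.image.ι φ) 0)
    rw [Abelian.image.fac, LinearMap.range_comp, LinearMap.range_eq_top.2 hsp, Submodule.map_top] at h
    exact h.symm
  have h1 := (Groth.EulerDeg.hMap k φ 0).finrank_range_add_finrank_ker
  have h2 := (Groth.EulerDeg.hMap k (cokernel.π φ) 0).finrank_range_add_finrank_ker
  rw [hker, LinearMap.range_eq_top.2 hsπ, finrank_top] at h2
  have h3 := (Groth.EulerDeg.hMap k q 0).finrank_range_le
  rw [LinearMap.range_eq_top.2 hsq, finrank_top] at h3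
  omega

end Groth.DegMono
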