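import Groth.Agent.EulerDeg.DimOne
import Groth.Agent.EulerDeg.Proper
import Groth.Agent.CohBase.GlobalSections
import Groth.Agent.Curves1.CurveMor.Basic
import Groth.Agent.QCohMod.Coherent
import Groth.Agent.QCohMod.Stalk
import Groth.Agent.S0002
import Groth.Prelude.Def_CurvBase

/-!
# Degrees along monomorphisms with torsion cokernel on curves
-/

universe u

open CategoryTheory CategoryTheory.Limits AlgebraicGeometry TopologicalSpace Opposite

namespace Groth.DegMono

variable (k : Type u) [Field k] {X : Scheme.{u}} [X.Over (Spec (CommRingCat.of k))]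

lemma isLocallyNoetherian [IsProper (X ↘ Spec (CommRingCat.of k))] : IsLocallyNoetherian X :=
  LocallyOfFiniteType.isLocallyNoetherian (X ↘ Spec (CommRingCat.of k))

lemma noetherianSpace [IsProper (X ↘ Spec (CommRingCat.of k))] : NoetherianSpace X := by
  have := Groth.EulerDeg.compactSpace_of_proper k X
  have := isLocallyNoetherian k (X := X)
  have : IsNoetherian X := {}
  infer_instance

theorem finCoh [IsProper (X ↘ Spec (CommRingCat.of k))] {M : X.Modules} (hM : Coh.IsCoh M) :
    Groth.EulerDeg.FinCoh k M :=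
  Groth.EulerDeg.finCoh_of_isCoh k X (fun M hM n => Groth.Agent.S0002.result k X M hM n) hM

variable [IsIntegral X] [IsProper (X ↘ Spec (CommRingCat.of k))]

include k in
/-- The abelian sheaf of a module with zero generic stalk has zero stalks at non-closed points. -/
lemma isZero_stalk_of_not_isClosed (hdim : topologicalKrullDim X ≤ 1) {Q : X.Modules}
    (hQ : Subsingleton (Q.presheaf.stalk (genericPoint X))) (x : X) (hx : ¬ IsClosed ({x} : Set X)) :
    IsZero ((Groth.EulerDeg.stalkAb (X := X.toTopCat) x).obj (Coh.toAb Q)) := by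
  obtain rfl := Groth.Curves1.CurveMor.eq_genericPoint_of_not_isClosed
    (X ↘ Spec (CommRingCat.of k)) hdim hx
  exact @AddCommGrpCat.isZero_of_subsingleton _ hQ

include k in
lemma subsingleton_HH_succ (hdim : topologicalKrullDim X ≤ 1) {Q : X.Modules}
    (hQ : Subsingleton (Q.presheaf.stalk (genericPoint X))) (n : ℕ) :
    Subsingleton (Coh.HH X Q (n + 1)) := by
  have ns := noetherianSpace k (X := X)
  have qs : QuasiSober X := inferInstance
  exact @Groth.EulerDeg.subsingleton_H_succ_of_closed_support X.toTopCat ns qs (Coh.toAb Q)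
    (isZero_stalk_of_not_isClosed k hdim hQ) n

include k in
/-- A module with zero generic stalk and no global class in degree zero vanishes. -/
lemma isZero_of_subsingleton_HH (hdim : topologicalKrullDim X ≤ 1) {Q : X.Modules}
    (hQ : Subsingleton (Q.presheaf.stalk (genericPoint X))) (h0 : Subsingleton (Coh.HH X Q 0)) :
    IsZero Q := by
  have ns := noetherianSpace k (X := X)
  have qs : QuasiSober X := inferInstance
  have hfl := @Groth.EulerDeg.isFlasque_of_closed_support X.toTopCat ns qs (Coh.toAb Q)
    (isZero_stalk_of_not_isClosed k hdim hQ)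
  have e : Coh.HH X Q 0 ≃+ ((Coh.toAb Q).obj.obj (op ⊤) : AddCommGrpCat) :=
    AddEquiv.trans CategoryTheory.Abelian.Ext.addEquiv₀ (Groth.CohBase.homConstZ (Coh.toAb Q))
  have htop : Subsingleton ((Coh.toAb Q).obj.obj (op ⊤) : AddCommGrpCat) := e.symm.toEquiv.subsingleton
  refine (Groth.QCohMod.isZero_iff_stalk Q).2 fun x => @AddCommGrpCat.isZero_of_subsingleton _ ?_
  refine subsingleton_of_forall_eq 0 fun t => ?_
  obtain ⟨V, hxV, s, rfl⟩ := TopCat.Presheaf.exists_germ_eq Q.presheaf t
  obtain ⟨g, hg⟩ := (AddCommGrpCat.epi_iff_surjective _).1 (hfl.epi (homOfLE (le_top (a := V))).op) s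
  have hs : s = 0 := hg.symm.trans (by rw [show g = 0 from @Subsingleton.elim _ htop g 0, map_zero]; rfl)
  exact (congrArg _ hs).trans (map_zero _)

theorem euler_cokernel (hdim : topologicalKrullDim X ≤ 1) {E F : X.Modules} (f : E ⟶ F) [Mono f]
    (hgen : Subsingleton ((cokernel f).presheaf.stalk (genericPoint X))) :
    Curv2.euler k X (cokernel f) = (Module.finrank k (Coh.HH X (cokernel f) 0) : ℤ) := by
  rw [Groth.EulerDeg.euler_eq_sum (k := k) (M := cokernel f) (N := 1) fun n hn => by
    obtain ⟨m, rfl⟩ : ∃ m, n = m + 1 := ⟨n - 1, by omega⟩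
    exact subsingleton_HH_succ k hdim hgen m]
  simp

/-- `deg F = deg E + h⁰(coker f)` for a monomorphism with torsion cokernel. -/
theorem deg_eq_add (hdim : topologicalKrullDim X ≤ 1) {E F : X.Modules} (hE : Coh.IsCoh E)
    (hF : Coh.IsCoh F) (n : ℕ) (f : E ⟶ F) [Mono f]
    (hgen : Subsingleton ((cokernel f).presheaf.stalk (genericPoint X))) :
    Curv2.deg k X F n = Curv2.deg k X E n + (Module.finrank k (Coh.HH X (cokernel f) 0) : ℤ) := by
  have := hE.1
  have hS : (ShortComplex.mk f (cokernel.π f) (cokernel.condition f)).ShortExact :=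
    { exact := ShortComplex.exact_cokernel f }
  have h := Groth.EulerDeg.euler_add (k := k) hS (finCoh k hE)
    (finCoh k (Groth.QCohMod.isCoh_cokernel f hF))
  unfold Curv2.deg
  rw [h, euler_cokernel k hdim f hgen]
  ring

theorem deg_le_and_eq_iff (hdim : topologicalKrullDim X ≤ 1) {E F : X.Modules} (hE : Coh.IsCoh E)
    (hF : Coh.IsCoh F) (n : ℕ) (f : E ⟶ F) [Mono f]
    (hgen : Subsingleton ((cokernel f).presheaf.stalk (genericPoint X))) :
    Curv2.deg k X E n ≤ Curv2.deg k X F n ∧
      (Curv2.deg k X E n = Curv2.deg k X F n ↔ IsIso f) := by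
  have := hE.1
  have hfin := (finCoh k (Groth.QCohMod.isCoh_cokernel f hF)).finite 0
  rw [deg_eq_add k hdim hE hF n f hgen]
  refine ⟨by omega, ⟨fun h => ?_, fun h => ?_⟩⟩
  · have h0 : Module.finrank k (Coh.HH X (cokernel f) 0) = 0 := by omega
    have hz := isZero_of_subsingleton_HH k hdim hgen (Module.finrank_zero_iff.1 h0)
    have : Epi f := Preadditive.epi_of_cokernel_zero (hz.eq_of_tgt _ _)
    exact isIso_of_mono_of_epi f
  · have hz : IsZero (cokernel f) := isZero_cokernel_of_epi f
    have hs : ∀ m, Subsingleton (Coh.HH X (cokernel f) m) := fun m => by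
      have hz' : IsZero (Coh.toAb (cokernel f)) := Functor.map_isZero _ hz
      refine subsingleton_of_forall_eq 0 fun x => ?_
      have h1 := CategoryTheory.Abelian.Ext.comp_mk₀_id x
      rw [show 𝟙 (Coh.toAb (cokernel f)) = 0 from hz'.eq_of_src _ _, CategoryTheory.Abelian.Ext.mk₀_zero,
        CategoryTheory.Abelian.Ext.comp_zero] at h1
      exact h1.symm
    have := hs 0
    simp [Module.finrank_zero_of_subsingleton (R := k) (M := Coh.HH X (cokernel f) 0)]

end Groth.DegMono
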