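import Groth.Agent.DegMono.LocFree
import Groth.Agent.CurveBridge.SmoothCurve
import Groth.Agent.Misc15.RankLe
import Groth.Agent.RefRank.Ext
import Groth.Agent.Variety2.CotangentScheme

/-!
# Coherent submodules and torsion free quotients on regular curves
-/

universe u

open CategoryTheory CategoryTheory.Limits AlgebraicGeometry

namespace Groth.DegMono

open Groth.KTheory.LocFree (stalkₗ)

theorem isPID_stalk (k : Type u) [Field k] (X : Scheme.{u}) [X.Over (Spec (CommRingCat.of k))]
    [IsIntegral X] [IsProper (X ↘ Spec (CommRingCat.of k))] [Smooth (X ↘ Spec (CommRingCat.of k))]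
    (hdim : topologicalKrullDim X = 1) (x : X) : IsPrincipalIdealRing (X.presheaf.stalk x) := by
  by_cases hx : IsClosed ({x} : Set X)
  · have := Groth.CurveBridge.regular_of_smooth k X x
    have := Groth.CurveBridge.isDVR_stalk k X hdim hx this
    infer_instance
  · obtain rfl := Groth.Curves1.CurveMor.eq_genericPoint_of_not_isClosed
      (X ↘ Spec (CommRingCat.of k)) hdim.le hx
    let : Field (X.presheaf.stalk (genericPoint X)) := inferInstanceAs (Field X.functionField)
    infer_instance

variable {X : Scheme.{u}}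

/-- The rank at the generic point. -/
noncomputable abbrev genRank [IrreducibleSpace X] (M : X.Modules) : ℕ :=
  Module.finrank (X.presheaf.stalk (genericPoint X)) (M.presheaf.stalk (genericPoint X))

section integral

variable [IsIntegral X]

theorem isFinLocFreeOfRank_genRank {M : X.Modules} (hM : FlatMod.IsFinLocFree M) :
    FlatMod.IsFinLocFreeOfRank (genRank M) M := by
  have := Groth.KTheory.LocFree.isQCoh hM
  refine Groth.LocFree.isFinLocFreeOfRank_iff_finrank.2 ⟨hM, fun x => ?_⟩
  obtain ⟨U, n, s, hx, hs⟩ := Groth.PicAux.exists_basis_of_isFinLocFree hM x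
  have hη : genericPoint X ∈ U :=
    ((genericPoint_spec X).mem_open_set_iff U.isOpen).mpr ⟨x, trivial, hx⟩
  exact (Groth.LocFree.finrank_stalk_of_basis hs hx).trans
    (Groth.LocFree.finrank_stalk_of_basis hs hη).symm

theorem genRank_eq {M : X.Modules} {n : ℕ} (h : FlatMod.IsFinLocFreeOfRank n M) : genRank M = n :=
  Groth.LocFree.finrank_stalk h _

theorem isFinLocFreeOfRank_of_torsionFree [IsLocallyNoetherian X]
    (hp : ∀ x : X, IsPrincipalIdealRing (X.presheaf.stalk x)) {M : X.Modules} (hM : Coh.IsCoh M)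
    (h : ∀ x : X, Module.IsTorsionFree (X.presheaf.stalk x) (M.presheaf.stalk x)) :
    FlatMod.IsFinLocFreeOfRank (genRank M) M := by
  refine isFinLocFreeOfRank_genRank (Groth.KTheory.LocFree.isFinLocFree_of_free_stalks hM fun x => ?_)
  have := hM.1
  have := hp x
  have := h x
  have := Groth.QCohMod.finite_stalk M hM.2 x
  exact @Module.free_of_finite_type_torsion_free' (X.presheaf.stalk x) _ (M.presheaf.stalk x) _ _ _ _ _ _

theorem isFinLocFreeOfRank_of_mono [IsLocallyNoetherian X]
    (hp : ∀ x : X, IsPrincipalIdealRing (X.presheaf.stalk x)) {M N : X.Modules} (hM : Coh.IsCoh M)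
    (hN : FlatMod.IsFinLocFree N) (φ : M ⟶ N) [Mono φ] :
    FlatMod.IsFinLocFreeOfRank (genRank M) M := by
  refine isFinLocFreeOfRank_of_torsionFree hp hM fun x => ?_
  have := Groth.KTheory.LocFree.free_stalk hN x
  have hinj : Function.Injective (stalkₗ φ x) := (Groth.QCohMod.mono_iff_stalk φ).mp inferInstance x
  exact hinj.moduleIsTorsionFree _ (map_smul (stalkₗ φ x))

theorem genRank_add {S : ShortComplex X.Modules} (hS : S.ShortExact)
    [Module.Finite (X.presheaf.stalk (genericPoint X)) (S.X₂.presheaf.stalk (genericPoint X))] :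
    genRank S.X₂ = genRank S.X₁ + genRank S.X₃ := by
  let : Field (X.presheaf.stalk (genericPoint X)) := inferInstanceAs (Field X.functionField)
  obtain ⟨hinj, hex, hsurj⟩ := Groth.KTheory.LocFree.stalk_exact hS (genericPoint X)
  have h := (stalkₗ S.g (genericPoint X)).finrank_range_add_finrank_ker
  rw [LinearMap.range_eq_top.2 hsurj, finrank_top, LinearMap.exact_iff.1 hex,
    LinearMap.finrank_range_of_inj hinj] at h
  exact h.symm.trans (add_comm _ _)

theorem isZero_of_rank_zero {M : X.Modules} (h : FlatMod.IsFinLocFreeOfRank 0 M) : IsZero M := by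
  have hfree := Groth.LocFree.isFinLocFree_of_rank h
  refine (Groth.QCohMod.isZero_iff_stalk M).2 fun x => @AddCommGrpCat.isZero_of_subsingleton _ ?_
  have := Groth.LocFree.finite_stalk hfree x
  have := Groth.KTheory.LocFree.free_stalk hfree x
  exact (Module.finrank_zero_iff.1 (Groth.LocFree.finrank_stalk h x) :
    Subsingleton (M.presheaf.stalk x))

end integral

/-- The stalk map into the reflexive hull. -/
theorem stalkₗ_eq_stalkMapₗ {M N : X.Modules} (φ : M ⟶ N) (x : X) :
    stalkₗ φ x = RefHull.stalkMapₗ φ x := rfl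

theorem torsionFree_of_mono_bidual [IsLocallyNoetherian X] {C : X.Modules} (hC : Coh.IsCoh C) (x : X)
    (h : Function.Injective (stalkₗ (RefHull.bidualMap C) x)) :
    Module.IsTorsionFree (X.presheaf.stalk x) (C.presheaf.stalk x) := by
  let E := (Groth.RefRank.homStalkEquiv (G := Coh.structureModule X) (Groth.RefRank.isCoh_dual hC) x).trans
    ((Groth.RefRank.dualEquiv hC x).arrowCongr (Groth.RefRank.oneEquiv x).symm)
  have hinj : Function.Injective (E.toLinearMap ∘ₗ stalkₗ (RefHull.bidualMap C) x) :=
    E.injective.comp h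
  exact hinj.moduleIsTorsionFree _ (map_smul _)

variable [IsIntegral X]

/-- A cokernel is finite locally free once no saturation enlarges the image. -/
theorem exists_saturation [IsLocallyNoetherian X]
    (hp : ∀ x : X, IsPrincipalIdealRing (X.presheaf.stalk x)) {E F : X.Modules} (hF : Coh.IsCoh F)
    [E.IsQuasicoherent] (f : E ⟶ F) :
    ∃ (G' : X.Modules) (j : G' ⟶ F) (l : Abelian.image f ⟶ G'), Mono j ∧ Mono l ∧
      Coh.IsCoh G' ∧ l ≫ j = Abelian.image.ι f ∧ genRank (Abelian.image f) = genRank G' ∧
      (IsIso l → FlatMod.IsFinLocFreeOfRank (genRank (cokernel f)) (cokernel f)) := by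
  have := hF.1
  have hC := Groth.QCohMod.isCoh_cokernel f hF
  let β := cokernel.π f ≫ RefHull.bidualMap (cokernel f)
  have hdd : (RefHull.ddual (cokernel f)).IsQuasicoherent :=
    (Groth.RefRank.isCoh_dual (Groth.RefRank.isCoh_dual hC)).1
  let l : Abelian.image f ⟶ kernel β := kernel.lift β (Abelian.image.ι f) (by
    rw [← Category.assoc, show Abelian.image.ι f ≫ cokernel.π f = 0 from kernel.condition _, zero_comp])
  have hlj : l ≫ kernel.ι β = Abelian.image.ι f := kernel.lift_ι _ _ _
  have hml : Mono l := mono_of_mono_fac hlj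
  have hker : ∀ (x : X) (v : F.presheaf.stalk x), stalkₗ β x v = 0 →
      ∃ w, stalkₗ (kernel.ι β) x w = v := by
    intro x v hv
    have hS : (ShortComplex.mk (kernel.ι β) β (kernel.condition β)).Exact :=
      ShortComplex.exact_kernel β
    have hex := hS.map (Groth.QCohMod.stalk x)
    rw [ShortComplex.ab_exact_iff] at hex
    exact hex v hv
  have hker' : ∀ (x : X) (v : F.presheaf.stalk x), stalkₗ (cokernel.π f) x v = 0 →
      ∃ w, stalkₗ (Abelian.image.ι f) x w = v := by
    intro x v hv
    have hS : (ShortComplex.mk (Abelian.image.ι f) (cokernel.π f) (kernel.condition _)).Exact :=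
      ShortComplex.exact_kernel _
    have hex := hS.map (Groth.QCohMod.stalk x)
    rw [ShortComplex.ab_exact_iff] at hex
    exact hex v hv
  have hcomp : ∀ (x : X) {A B C : X.Modules} (a : A ⟶ B) (b : B ⟶ C) (v : A.presheaf.stalk x),
      stalkₗ (a ≫ b) x v = stalkₗ b x (stalkₗ a x v) := fun x A B C a b v =>
    congr($((Groth.QCohMod.stalk x).map_comp a b) v)
  refine ⟨kernel β, kernel.ι β, l, inferInstance, hml, Groth.QCohMod.isCoh_kernel β hF, hlj, ?_,
    fun hl => ?_⟩
  · refine (LinearEquiv.ofBijective (stalkₗ l (genericPoint X))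
      ⟨(Groth.QCohMod.mono_iff_stalk l).mp hml _, fun w => ?_⟩).finrank_eq
    have h0 : stalkₗ (cokernel.π f) _ (stalkₗ (kernel.ι β) (genericPoint X) w) = 0 := by
      refine (Groth.RefRank.bidual_gen_bijective hC).1 ?_
      rw [map_zero, ← stalkₗ_eq_stalkMapₗ, ← hcomp, ← hcomp]
      rw [show kernel.ι β ≫ cokernel.π f ≫ RefHull.bidualMap (cokernel f) = 0 from kernel.condition β]
      exact congr($((Groth.QCohMod.stalk (genericPoint X)).map_zero (kernel β) (RefHull.ddual (cokernel f))) w)
    obtain ⟨u, hu⟩ := hker' _ _ h0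
    refine ⟨u, (Groth.QCohMod.mono_iff_stalk (kernel.ι β)).mp inferInstance (genericPoint X) ?_⟩
    have h2 := (hcomp _ l (kernel.ι β) u).symm
    rw [hlj, hu] at h2
    exact h2
  · refine isFinLocFreeOfRank_of_torsionFree hp hC fun x => torsionFree_of_mono_bidual hC x ?_
    refine (injective_iff_map_eq_zero _).2 fun c hc => ?_
    obtain ⟨v, rfl⟩ := (Groth.QCohMod.epi_iff_stalk (cokernel.π f)).mp inferInstance x c
    obtain ⟨w, hw⟩ := hker x v ((hcomp x (cokernel.π f) _ v).trans hc)
    have h1 : stalkₗ (Abelian.image.ι f) x (stalkₗ (inv l) x w) = v := by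
      rw [← hcomp, ← hlj, IsIso.inv_hom_id_assoc, hw]
    rw [← h1]
    exact (hcomp x (Abelian.image.ι f) (cokernel.π f) _).symm.trans
      (by rw [show Abelian.image.ι f ≫ cokernel.π f = 0 from kernel.condition _]
          exact congr($((Groth.QCohMod.stalk x).map_zero _ _) _))

/-- The residue field at a closed point is the base field. -/
theorem residue_stalkMap_surjective (k : Type u) [Field k] [IsAlgClosed k]
    [X.Over (Spec (CommRingCat.of k))] [LocallyOfFiniteType (X ↘ Spec (CommRingCat.of k))] {x : X}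
    (hx : IsClosed ({x} : Set X)) :
    Function.Surjective ((IsLocalRing.residue (X.presheaf.stalk x)).comp (Curv2.stalkMap k X x)) :=
  (Groth.Variety2.CotSmooth.bijective_algebraMap_residue (k := k) hx).2

end Groth.DegMono
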