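import Groth.Agent.DegMono.Torsion
import Groth.Agent.DegMono.LocFree
import Groth.Prelude.Def_ParBun2

/-!
# Bounds on induced generalised parabolic structures through full-rank submodules
-/

universe u

open CategoryTheory CategoryTheory.Limits AlgebraicGeometry

namespace Groth.DegMono

variable (k : Type u) [Field k] {X : Scheme.{u}} [X.Over (Spec (CommRingCat.of k))]
  [IsIntegral X] [IsProper (X ↘ Spec (CommRingCat.of k))]


/-- The kernel of `H⁰(E ⊗ O_D) → H⁰(F ⊗ O_D)` along a full-rank inclusion has dimension at most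
`deg F - deg E`. -/
theorem finrank_ker_fibDMap_le (hdim : topologicalKrullDim X ≤ 1) (I : X.IdealSheafData)
    (hD : FGA.IsEffCartier I) {E F : X.Modules} {n : ℕ} (hE : FlatMod.IsFinLocFreeOfRank n E)
    (hF : FlatMod.IsFinLocFreeOfRank n F) (f : E ⟶ F) [Mono f]
    [Module.Finite k (ParSh.fibD X I E)] [Module.Finite k (ParSh.fibD X I F)]
    (heq : Module.finrank k (ParSh.fibD X I E) = Module.finrank k (ParSh.fibD X I F)) :
    (Module.finrank k (LinearMap.ker (ParSh.fibDMap k X I f)) : ℤ) ≤
      Curv2.deg k X F n - Curv2.deg k X E n := by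
  have hEc := Groth.KTheory.LocFree.isCoh (Groth.LocFree.isFinLocFree_of_rank hE)
  have hFc := Groth.KTheory.LocFree.isCoh (Groth.LocFree.isFinLocFree_of_rank hF)
  have hgen := subsingleton_stalk_cokernel hE hF f
  have := hEc.1
  have := (finCoh k (Groth.QCohMod.isCoh_cokernel f hFc)).finite 0
  have h0 : f ≫ toRestrict I F ≫ cokernel.π (KoszTw.tensorMap f (𝟙 (ClSub.quotMod I))) = 0 := by
    rw [← Category.assoc, toRestrict_natural, Category.assoc, cokernel.condition, comp_zero]
  let q : cokernel f ⟶ cokernel (ParSh.resDMap I f) := cokernel.desc f _ h0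
  have : Epi q := by
    have : Epi (cokernel.π f ≫ q) := by
      rw [cokernel.π_desc]
      exact epi_comp _ _
    exact epi_of_epi (cokernel.π f) q
  have h := finrank_ker_hMap_le k hdim (ParSh.resDMap I f) ((isTors_quotMod I hD).tensorMod E)
    ((isTors_quotMod I hD).tensorMod F) hgen heq q
  have h2 := deg_eq_add k hdim hEc hFc n f hgen
  have h' : Module.finrank k (LinearMap.ker (ParSh.fibDMap k X I f)) ≤
      Module.finrank k (Coh.HH X (cokernel f) 0) := h
  omega

theorem gp_map_bound (hdim : topologicalKrullDim X ≤ 1) (I : X.IdealSheafData)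
    (hD : FGA.IsEffCartier I) {E F : X.Modules} {n : ℕ} (hE : FlatMod.IsFinLocFreeOfRank n E)
    (hF : FlatMod.IsFinLocFreeOfRank n F) (f : E ⟶ F) [Mono f]
    [Module.Finite k (ParSh.fibD X I E)] [Module.Finite k (ParSh.fibD X I F)]
    (heq : Module.finrank k (ParSh.fibD X I E) = Module.finrank k (ParSh.fibD X I F))
    {A : Submodule k (ParSh.fibD X I E)} {B : Submodule k (ParSh.fibD X I F)}
    (h : A.map (ParSh.fibDMap k X I f) ≤ B) :
    (Module.finrank k A : ℤ) ≤ Module.finrank k B + (Curv2.deg k X F n - Curv2.deg k X E n) := by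
  have h1 := ((ParSh.fibDMap k X I f).domRestrict A).finrank_range_add_finrank_ker
  rw [LinearMap.range_domRestrict] at h1
  have h2 := Submodule.finrank_mono h
  have h3 : Module.finrank k (LinearMap.ker ((ParSh.fibDMap k X I f).domRestrict A)) ≤
      Module.finrank k (LinearMap.ker (ParSh.fibDMap k X I f)) :=
    LinearMap.finrank_le_finrank_of_injective
      (f := (A.subtype).restrict (p := LinearMap.ker ((ParSh.fibDMap k X I f).domRestrict A))
        (q := LinearMap.ker (ParSh.fibDMap k X I f)) fun x hx => hx)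
      fun x y hxy => Subtype.ext (A.injective_subtype (by have h9 := congrArg Subtype.val hxy; exact h9))
  have h4 := finrank_ker_fibDMap_le k hdim I hD hE hF f heq
  omega

end Groth.DegMono
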