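import Groth.Agent.DegMono.GPMor

/-!
# Endomorphisms of generalised parabolic bundles shifted by a scalar
-/

universe u

open CategoryTheory CategoryTheory.Limits AlgebraicGeometry

namespace Groth.DegMono

open Groth.KTheory.LocFree (stalkₗ)
open Groth.ModelsGraphs.DualExtend (smulHom)

variable {X : Scheme.{u}} (k : Type u) [Field k] [X.Over (Spec (CommRingCat.of k))]

theorem fibDMap_sub_smul (I : X.IdealSheafData) {E : X.Modules} (f : E ⟶ E) (c : k)
    (v : ParSh.fibD X I E) :
    ParSh.fibDMap k X I (f - smulHom E (Coh.toGlobal (X ↘ Spec (CommRingCat.of k)) c)) v =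
      ParSh.fibDMap k X I f v - c • v := by
  let s := Coh.toGlobal (X ↘ Spec (CommRingCat.of k)) c
  have h : ParSh.resDMap I (f - smulHom E s) + smulHom (ParSh.resD I E) s = ParSh.resDMap I f := by
    rw [← cancel_epi (toRestrict I E), Preadditive.comp_add, ← toRestrict_natural,
      ← Groth.ModelsGraphs.DualExtend.smulHom_comm (toRestrict I E), Preadditive.sub_comp,
      sub_add_cancel, toRestrict_natural]
  rw [eq_sub_iff_add_eq]
  simp only [HHlin_eq, Groth.EulerDeg.hMap_apply]
  refine ((Sheaf.H.map_add_apply _ _ _).symm.trans ?_ : _ + Sheaf.H.map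
    (Groth.EulerDeg.abMap (smulHom (ParSh.resD I E) s)) 0 v = _)
  rw [← (Groth.CohBase.toAbF X).map_add, h]

theorem stalkₗ_smulHom (M : X.Modules) (c : k) (x : X) (v : M.presheaf.stalk x) :
    stalkₗ (smulHom M (Coh.toGlobal (X ↘ Spec (CommRingCat.of k)) c)) x v =
      Curv2.stalkMap k X x c • v := by
  obtain ⟨U, hx, m, rfl⟩ := Groth.QCohMod.exists_germ M x v
  refine (Groth.QCohMod.stalk_map_germ _ x hx m).trans ?_
  rw [Groth.ModelsGraphs.DualExtend.smulHom_app, Groth.QCohMod.germ_smul]
  congr 1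
  exact TopCat.Presheaf.germ_res_apply X.presheaf (homOfLE le_top) x hx _

/-- A root of the reduced characteristic polynomial obstructs invertibility. -/
theorem not_isIso_sub_smul {E : X.Modules} {n : ℕ} (_hE : FlatMod.IsFinLocFreeOfRank n E) (x : X)
    (b : Module.Basis (Fin n) (X.presheaf.stalk x) (E.presheaf.stalk x)) (c : k) {f : E ⟶ E}
    (hc : IsLocalRing.residue (X.presheaf.stalk x)
      ((LinearMap.toMatrix b b (stalkₗ f x)).charpoly.eval (Curv2.stalkMap k X x c)) = 0) :
    ¬ IsIso (f - smulHom E (Coh.toGlobal (X ↘ Spec (CommRingCat.of k)) c)) := by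
  intro hiso
  let a := Curv2.stalkMap k X x c
  let φ := stalkₗ (f - smulHom E (Coh.toGlobal (X ↘ Spec (CommRingCat.of k)) c)) x
  have hφ : φ = stalkₗ f x - a • LinearMap.id := LinearMap.ext fun v => by
    show (Groth.QCohMod.stalk x).map _ v = _
    rw [Functor.map_sub]
    exact congrArg (stalkₗ f x v - ·) (stalkₗ_smulHom k E c x v)
  have hbij : Function.Bijective φ :=
    ConcreteCategory.bijective_of_isIso ((Groth.QCohMod.stalk x).map _)
  have hdet : IsUnit (LinearMap.toMatrix b b φ).det := by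
    rw [LinearMap.det_toMatrix]
    exact LinearMap.isUnit_det φ ((Module.End.isUnit_iff φ).2 hbij)
  rw [hφ, map_sub, map_smul, LinearMap.toMatrix_id, ← neg_sub, Matrix.det_neg] at hdet
  have h2 := (IsUnit.mul_iff.1 hdet).2
  rw [Matrix.smul_one_eq_diagonal, ← Matrix.scalar_apply, ← Matrix.eval_charpoly] at h2
  exact (IsLocalRing.residue_ne_zero_iff_isUnit _).2 h2 hc

end Groth.DegMono
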