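import Groth.Agent.DegMono.GPBound
import Groth.Agent.DegMono.StalkSum
import Groth.Agent.DegMono.CurveSub
import Groth.Agent.ModelsGraphs.DualExtend
import Groth.Prelude.Def_ParBun2

/-!
# Generalised parabolic structures along short exact sequences and morphisms
-/

universe u

open CategoryTheory CategoryTheory.Limits AlgebraicGeometry TensorProduct

namespace Groth.DegMono

open Groth.KTheory.LocFree (stalkₗ)

variable {X : Scheme.{u}}

theorem stalkTensor_tensorMap {M N : X.Modules} (φ : M ⟶ N) (T : X.Modules) (x : X)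
    (z : M.presheaf.stalk x ⊗[X.presheaf.stalk x] T.presheaf.stalk x) :
    stalkₗ (KoszTw.tensorMap φ (𝟙 T)) x (Groth.QCohMod.stalkTensorEquiv M T x z) =
      Groth.QCohMod.stalkTensorEquiv N T x ((stalkₗ φ x).rTensor _ z) := by
  induction z using TensorProduct.induction_on with
  | zero => simp only [map_zero]
  | add a b ha hb => simp only [map_add, ha, hb]
  | tmul a b =>
    obtain ⟨W, hW, a, b, rfl, rfl⟩ := Groth.QCohMod.exists_common_germ x a b
    rw [LinearMap.rTensor_tmul, Groth.QCohMod.stalkTensorEquiv_tmul]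
    show (Groth.QCohMod.stalk x).map _ _ = _
    rw [Groth.QCohMod.stalk_map_germ _ x hW]
    refine Eq.trans ?_ (congrArg (Groth.QCohMod.stalkTensorEquiv N T x)
      (congrArg (· ⊗ₜ Groth.QCohMod.germ T x hW b) (Groth.QCohMod.stalk_map_germ φ x hW a).symm))
    rw [Groth.QCohMod.stalkTensorEquiv_tmul]
    exact congrArg _ (KoszTw.tensorMap_tmul φ (𝟙 T) W a b)

/-- Tensoring a locally split monomorphism keeps it a monomorphism. -/
theorem mono_tensorMap_of_shortExact {S : ShortComplex X.Modules} (hS : S.ShortExact)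
    (h₃ : FlatMod.IsFinLocFree S.X₃) (T : X.Modules) : Mono (KoszTw.tensorMap S.f (𝟙 T)) := by
  refine (Groth.QCohMod.mono_iff_stalk _).mpr fun x => ?_
  obtain ⟨hinj, hex, hsurj⟩ := Groth.KTheory.LocFree.stalk_exact hS x
  have := Groth.KTheory.LocFree.free_stalk h₃ x
  obtain ⟨l, hl⟩ := Module.projective_lifting_property (stalkₗ S.g x) LinearMap.id hsurj
  obtain ⟨e, he, -⟩ := hex.splitSurjectiveEquiv hinj ⟨l, hl⟩
  let p := (LinearMap.fst _ _ _).comp e.toLinearMap
  have hp : p.comp (stalkₗ S.f x) = LinearMap.id := by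
    show ((LinearMap.fst _ _ _).comp e.toLinearMap).comp (stalkₗ S.f x) = _
    rw [he]
    ext t
    simp
  intro a b hab
  obtain ⟨a, rfl⟩ := (Groth.QCohMod.stalkTensorEquiv S.X₁ T x).surjective a
  obtain ⟨b, rfl⟩ := (Groth.QCohMod.stalkTensorEquiv S.X₁ T x).surjective b
  congr 1
  have h : (stalkₗ S.f x).rTensor (T.presheaf.stalk x) a = (stalkₗ S.f x).rTensor _ b := by
    refine (Groth.QCohMod.stalkTensorEquiv S.X₂ T x).injective ?_
    rw [← stalkTensor_tensorMap, ← stalkTensor_tensorMap]
    exact hab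
  have h' := congrArg (p.rTensor (T.presheaf.stalk x)) h
  rw [← LinearMap.rTensor_comp_apply, ← LinearMap.rTensor_comp_apply, hp, LinearMap.rTensor_id] at h'
  exact h'

variable (k : Type u) [Field k] [X.Over (Spec (CommRingCat.of k))]

theorem HHlin_eq {M N : X.Modules} (φ : M ⟶ N) (n : ℕ) :
    Canon.HHlin k φ n = Groth.EulerDeg.hMap k φ n := LinearMap.ext fun _ => rfl

theorem hMap_injective_of_mono {M N : X.Modules} (φ : M ⟶ N) [Mono φ] :
    Function.Injective (Groth.EulerDeg.hMap k φ 0) :=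
  Groth.EulerDeg.injective_zero k (S := ShortComplex.mk φ (cokernel.π φ) (cokernel.condition φ))
    { exact := ShortComplex.exact_cokernel φ }

theorem fibDMap_comp (I : X.IdealSheafData) {E F G : X.Modules} (a : E ⟶ F) (b : F ⟶ G) :
    ParSh.fibDMap k X I (a ≫ b) = (ParSh.fibDMap k X I b).comp (ParSh.fibDMap k X I a) := by
  simp only [HHlin_eq, ← Groth.EulerDeg.hMap_comp, ← KoszTw.tensorMap_comp, Category.comp_id]

theorem hMap_zero (M N : X.Modules) : Groth.EulerDeg.hMap k (0 : M ⟶ N) 0 = 0 := by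
  refine LinearMap.ext fun x => ?_
  rw [Groth.EulerDeg.hMap_apply, Groth.EulerDeg.abMap_zero, Sheaf.H.map_apply,
    CategoryTheory.Abelian.Ext.mk₀_zero, CategoryTheory.Abelian.Ext.comp_zero, LinearMap.zero_apply]

theorem fibDMap_zero (I : X.IdealSheafData) (E F : X.Modules) :
    ParSh.fibDMap k X I (0 : E ⟶ F) = 0 := by
  have h : KoszTw.tensorMap (0 : E ⟶ F) (𝟙 (ClSub.quotMod I)) = 0 := by
    rw [← cancel_epi (toRestrict I E), ← toRestrict_natural, zero_comp, comp_zero]
  simp only [HHlin_eq, ParSh.resDMap, h, hMap_zero]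

theorem map_le_gpInduced (I : X.IdealSheafData) {E G F : X.Modules} (p : E ⟶ G) (i : G ⟶ F)
    (f : E ⟶ F) (h : p ≫ i = f) (F₁ : Submodule k (ParSh.fibD X I E))
    (F₁' : Submodule k (ParSh.fibD X I F)) (hf : ParSh.IsGPHom k X I F₁ F₁' f) :
    F₁.map (ParSh.fibDMap k X I p) ≤ ParSh.gpInduced k X I i F₁' := by
  subst h
  have hc := fibDMap_comp k I p i
  refine Submodule.map_le_iff_le_comap.2 fun v hv => ?_
  have := hf (Submodule.mem_map_of_mem hv)
  rw [hc] at this
  exact this

variable [IsIntegral X] [IsProper (X ↘ Spec (CommRingCat.of k))]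

theorem deg_add_of_ses {S : ShortComplex X.Modules} (hS : S.ShortExact) {a b c : ℕ}
    (h₁ : Coh.IsCoh S.X₁) (h₃ : Coh.IsCoh S.X₃) (habc : b = a + c) :
    Curv2.deg k X S.X₂ b = Curv2.deg k X S.X₁ a + Curv2.deg k X S.X₃ c := by
  unfold Curv2.deg
  rw [Groth.EulerDeg.euler_add (k := k) hS (finCoh k h₁) (finCoh k h₃), habc]
  push_cast
  ring

theorem deg_zero_of_isZero {M : X.Modules} (hM : IsZero M) : Curv2.deg k X M 0 = 0 := by
  have hs : ∀ m, 0 ≤ m → Subsingleton (Coh.HH X M m) := fun m _ => by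
    have hz' : IsZero (Coh.toAb M) := Functor.map_isZero _ hM
    refine subsingleton_of_forall_eq 0 fun x => ?_
    have h1 := CategoryTheory.Abelian.Ext.comp_mk₀_id x
    rw [show 𝟙 (Coh.toAb M) = 0 from hz'.eq_of_src _ _, CategoryTheory.Abelian.Ext.mk₀_zero,
      CategoryTheory.Abelian.Ext.comp_zero] at h1
    exact h1.symm
  unfold Curv2.deg
  rw [Groth.EulerDeg.euler_eq_sum (k := k) (M := M) (N := 0) hs]
  simp

theorem finrank_gp_ses (hdim : topologicalKrullDim X ≤ 1) (I : X.IdealSheafData)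
    (hD : FGA.IsEffCartier I) {S : ShortComplex X.Modules} (hS : S.ShortExact) {a b c : ℕ}
    (h₁ : FlatMod.IsFinLocFreeOfRank a S.X₁) (h₂ : FlatMod.IsFinLocFreeOfRank b S.X₂)
    (h₃ : FlatMod.IsFinLocFreeOfRank c S.X₃) (habc : b = a + c)
    (A : Submodule k (ParSh.fibD X I S.X₂)) :
    Module.finrank k A = Module.finrank k (ParSh.gpInduced k X I S.f A) +
      Module.finrank k (A.map (ParSh.fibDMap k X I S.g)) := by
  obtain ⟨hf1, hd1⟩ := finrank_fibD k hdim I hD h₁
  obtain ⟨hf2, hd2⟩ := finrank_fibD k hdim I hD h₂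
  obtain ⟨hf3, hd3⟩ := finrank_fibD k hdim I hD h₃
  have := hS.epi_g
  let f := ParSh.fibDMap k X I S.f
  let g := ParSh.fibDMap k X I S.g
  have hinj : Function.Injective f := by
    have := mono_tensorMap_of_shortExact hS (Groth.LocFree.isFinLocFree_of_rank h₃) (ClSub.quotMod I)
    show Function.Injective (Canon.HHlin k (ParSh.resDMap I S.f) 0)
    rw [HHlin_eq]
    exact hMap_injective_of_mono k (ParSh.resDMap I S.f)
  have hsurj : Function.Surjective g := by
    have : Epi (toRestrict I S.X₂ ≫ KoszTw.tensorMap S.g (𝟙 (ClSub.quotMod I))) := by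
      rw [← toRestrict_natural]
      exact epi_comp _ _
    have := epi_of_epi (toRestrict I S.X₂) (KoszTw.tensorMap S.g (𝟙 (ClSub.quotMod I)))
    show Function.Surjective (Canon.HHlin k (ParSh.resDMap I S.g) 0)
    rw [HHlin_eq]
    exact hMap_surjective k hdim ((isTors_quotMod I hD).tensorMod S.X₂) (ParSh.resDMap I S.g)
  have hcomp : g.comp f = 0 := by
    rw [← fibDMap_comp, S.zero, fibDMap_zero]
  have hle : LinearMap.range f ≤ LinearMap.ker g := by
    rintro _ ⟨v, rfl⟩
    exact LinearMap.congr_fun hcomp v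
  have hkr : LinearMap.ker g = LinearMap.range f := by
    refine (Submodule.eq_of_le_of_finrank_eq hle ?_).symm
    have h := g.finrank_range_add_finrank_ker
    rw [LinearMap.range_eq_top.2 hsurj, finrank_top] at h
    rw [LinearMap.finrank_range_of_inj hinj]
    have e1 : Module.finrank k (ParSh.fibD X I S.X₁) = _ := hd1
    have e2 : Module.finrank k (ParSh.fibD X I S.X₂) = _ := hd2
    have e3 : Module.finrank k (ParSh.fibD X I S.X₃) = _ := hd3
    subst habc
    rw [e2, e3, add_mul] at h
    omega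
  have h := (g.domRestrict A).finrank_range_add_finrank_ker
  rw [LinearMap.range_domRestrict] at h
  have hk : Module.finrank k (LinearMap.ker (g.domRestrict A)) = Module.finrank k (A.comap f) := by
    rw [(Submodule.equivMapOfInjective A.subtype A.injective_subtype _).finrank_eq,
      (Submodule.equivMapOfInjective f hinj (A.comap f)).finrank_eq, Submodule.map_comap_eq, ← hkr,
      LinearMap.ker_domRestrict, Submodule.map_comap_eq, Submodule.range_subtype, inf_comm]
  rw [← h, hk, add_comm]
  rfl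

theorem gpWt_le {I : X.IdealSheafData} {α : ℝ} (hα : 0 ≤ α) {M : X.Modules}
    [Module.Finite k (ParSh.fibD X I M)] {A B : Submodule k (ParSh.fibD X I M)} (h : A ≤ B) (r : ℕ) :
    ParSh.gpDeg k X α M A r ≤ ParSh.gpDeg k X α M B r := by
  simp only [ParSh.gpDeg, ParSh.gpWt]
  have : (Module.finrank k A : ℝ) ≤ Module.finrank k B := by exact_mod_cast Submodule.finrank_mono h
  linarith [mul_le_mul_of_nonneg_left this hα]

set_option maxHeartbeats 1000000 in
/-- The image of a non-zero morphism, with the bounds coming from semistability. -/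
theorem exists_image_data [Smooth (X ↘ Spec (CommRingCat.of k))] (hdim : topologicalKrullDim X = 1)
    (I : X.IdealSheafData) (hD : FGA.IsEffCartier I) {α : ℝ} (hα0 : 0 ≤ α) {E F : X.Modules}
    {n m : ℕ} (hE : FlatMod.IsFinLocFreeOfRank n E) (hF : FlatMod.IsFinLocFreeOfRank m F)
    (F₁ : Submodule k (ParSh.fibD X I E)) (F₁' : Submodule k (ParSh.fibD X I F))
    (hEss : ParSh.IsGPSemistable k X I α F₁ n) (f : E ⟶ F) (hf : ParSh.IsGPHom k X I F₁ F₁' f)
    (hne : f ≠ 0) :
    ∃ r : ℕ, 0 < r ∧ r ≤ n ∧ r ≤ m ∧ FlatMod.IsFinLocFreeOfRank r (Abelian.image f) ∧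
      (r = n → Mono f) ∧
      ParSh.gpDeg k X α E F₁ n * (r : ℝ) ≤ ParSh.gpDeg k X α (Abelian.image f)
        (ParSh.gpInduced k X I (Abelian.image.ι f) F₁') r * (n : ℝ) ∧
      (ParSh.IsGPStable k X I α F₁ n → r < n → ParSh.gpDeg k X α E F₁ n * (r : ℝ) <
        ParSh.gpDeg k X α (Abelian.image f)
          (ParSh.gpInduced k X I (Abelian.image.ι f) F₁') r * (n : ℝ)) := by
  have hLN := isLocallyNoetherian k (X := X)
  have hp := isPID_stalk k X hdim
  have hEf := Groth.LocFree.isFinLocFree_of_rank hE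
  have hFf := Groth.LocFree.isFinLocFree_of_rank hF
  have hEc := Groth.KTheory.LocFree.isCoh hEf
  have hFc := Groth.KTheory.LocFree.isCoh hFf
  have := hEc.1
  have := hFc.1
  have hC := Groth.QCohMod.isCoh_cokernel f hFc
  have := hC.1
  have hGc : Coh.IsCoh (Abelian.image f) := Groth.QCohMod.isCoh_kernel (cokernel.π f) hFc
  have := hGc.1
  have hG := isFinLocFreeOfRank_of_mono hp hGc hFf (Abelian.image.ι f)
  let π := Abelian.factorThruImage f
  have hKc : Coh.IsCoh (kernel π) := Groth.QCohMod.isCoh_kernel π hEc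
  have hK := isFinLocFreeOfRank_of_mono hp hKc hEf (kernel.ι π)
  have hS : (ShortComplex.mk (kernel.ι π) π (kernel.condition π)).ShortExact :=
    { exact := ShortComplex.exact_kernel π }
  have hfin : Module.Finite (X.presheaf.stalk (genericPoint X))
      ((ShortComplex.mk (kernel.ι π) π (kernel.condition π)).X₂.presheaf.stalk (genericPoint X)) :=
    Groth.LocFree.finite_stalk hEf _
  have hadd0 := genRank_add hS
  have hadd : n = genRank (kernel π) + genRank (Abelian.image f) :=
    (genRank_eq hE).symm.trans hadd0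
  generalize hr : genRank (Abelian.image f) = r at hG hadd ⊢
  generalize hs : genRank (kernel π) = s at hK hadd
  have hr0 : 0 < r := by
    refine Nat.pos_of_ne_zero fun h0 => hne ?_
    rw [← Abelian.image.fac f]
    subst h0
    rw [(isZero_of_rank_zero hG).eq_of_tgt (Abelian.factorThruImage f) 0, zero_comp]
  obtain ⟨hfG, -⟩ := finrank_fibD k hdim.le I hD hG
  have : Module.Finite k (ParSh.fibD X I (Abelian.image f)) := hfG
  let A := F₁.map (ParSh.fibDMap k X I π)
  have hA : A ≤ ParSh.gpInduced k X I (Abelian.image.ι f) F₁' :=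
    map_le_gpInduced k I π (Abelian.image.ι f) f (Abelian.image.fac f) F₁ F₁' hf
  have hsum := finrank_gp_ses k hdim.le I hD hS hK hE hG hadd F₁
  have hdeg := deg_add_of_ses k hS hKc hGc hadd
  have hsplit : ParSh.gpDeg k X α E F₁ n =
      ParSh.gpDeg k X α (kernel π) (ParSh.gpInduced k X I (kernel.ι π) F₁) s +
        ParSh.gpDeg k X α (Abelian.image f) A r := by
    simp only [ParSh.gpDeg, ParSh.gpWt]
    have hdeg' : (Curv2.deg k X E n : ℝ) = Curv2.deg k X (kernel π) s +
        Curv2.deg k X (Abelian.image f) r := by exact_mod_cast hdeg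
    have hsum' : (Module.finrank k F₁ : ℝ) =
        Module.finrank k (ParSh.gpInduced k X I (kernel.ι π) F₁) + Module.finrank k A := by
      exact_mod_cast hsum
    rw [hdeg', hsum']
    ring
  have hle := gpWt_le k hα0 hA r
  have hn' : (n : ℝ) = s + r := by exact_mod_cast hadd
  have hnn : (0 : ℝ) ≤ n := Nat.cast_nonneg n
  refine ⟨r, hr0, by omega, Groth.Misc15.rank_le_of_mono hG hF (Abelian.image.ι f), hG,
    fun hrn => ?_, ?_, fun hst hrn => ?_⟩
  · obtain rfl : s = 0 := by omega
    have : Mono π := Preadditive.mono_of_kernel_zero ((isZero_of_rank_zero hK).eq_of_src _ _)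
    rw [← Abelian.image.fac f]
    exact mono_comp _ _
  · rcases Nat.eq_zero_or_pos s with rfl | hs0
    · have hz := isZero_of_rank_zero hK
      have h0 : ParSh.gpDeg k X α (kernel π) (ParSh.gpInduced k X I (kernel.ι π) F₁) 0 = 0 := by
        obtain ⟨hfK, hdK⟩ := finrank_fibD k hdim.le I hD hK
        have : Module.Finite k (ParSh.fibD X I (kernel π)) := hfK
        have h1 : Module.finrank k (ParSh.gpInduced k X I (kernel.ι π) F₁) = 0 :=
          Nat.eq_zero_of_le_zero ((Submodule.finrank_le _).trans (hdK.trans (zero_mul _)).le)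
        simp only [ParSh.gpDeg, ParSh.gpWt, h1, deg_zero_of_isZero k hz]
        simp
      rw [h0, zero_add] at hsplit
      rw [hsplit, hn', Nat.cast_zero, zero_add]
      exact mul_le_mul_of_nonneg_right hle (Nat.cast_nonneg r)
    · have h := hEss _ s (kernel.ι π) inferInstance hs0 hK
      rw [hsplit] at h ⊢
      rw [hn'] at h ⊢
      linarith [mul_le_mul_of_nonneg_right hle (hn' ▸ hnn)]
  · have h := hst _ s (kernel.ι π) inferInstance (by omega) (by omega) hK
    rw [hsplit] at h ⊢
    rw [hn'] at h ⊢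
    linarith [mul_le_mul_of_nonneg_right hle (hn' ▸ hnn)]

end Groth.DegMono
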